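import Groth.Agent.Lib.VecBundle.Core

/-!
# Smooth algebras graded by a sharp monoid are symmetric algebras
-/

universe u v

open DirectSum

namespace GrothLib.VecBundle

section Monoid

variable {N : Type*} [AddCommMonoid N] [AddMonoid.FG N] [IsCancelAdd N]

theorem exists_height (hsharp : ∀ n : N, IsAddUnit n → n = 0) :
    ∃ w : N → ℕ, ∀ m d : N, d ≠ 0 → w m < w (m + d) := by
  classical
  obtain ⟨S, hS⟩ := AddMonoid.fg_def.1 (inferInstance : AddMonoid.FG N)
  let e : (S → ℕ) →+ N :=
    { toFun := fun v => ∑ i, v i • (i : N)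
      map_zero' := by simp
      map_add' := fun a b => by simp [add_smul, Finset.sum_add_distrib] }
  have hsurj : ∀ n, ∃ v, e v = n := fun n => by
    have hn : n ∈ AddSubmonoid.closure (S : Set N) := hS ▸ AddSubmonoid.mem_top n
    induction hn using AddSubmonoid.closure_induction with
    | mem x hx => exact ⟨Pi.single ⟨x, hx⟩ 1, by simp [e, Pi.single_apply, ite_smul]⟩
    | zero => exact ⟨0, map_zero e⟩
    | add a b _ _ ha hb =>
      obtain ⟨v, rfl⟩ := ha
      obtain ⟨v', rfl⟩ := hb
      exact ⟨v + v', map_add e v v'⟩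
  let E : N → Set (S → ℕ) := fun n => {v | e v = n ∧ ∀ i : S, (i : N) = 0 → v i = 0}
  have hfin : ∀ n, (E n).Finite := fun n => by
    refine IsAntichain.finite_of_partiallyWellOrderedOn (r := (· ≤ ·)) (fun v hv v' hv' hne hle => hne ?_)
      (Set.isPWO_of_wellQuasiOrderedLE _)
    funext i
    replace hle : ∀ j, v j ≤ v' j := hle
    have hd : e (v' - v) = 0 := by
      have h1 : v' = v + (v' - v) := funext fun j => by simp only [Pi.add_apply, Pi.sub_apply]; have := hle j; omega
      have h2 := congrArg e h1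
      rw [map_add, hv.1, hv'.1] at h2
      exact (left_eq_add.1 h2)
    by_cases hi : (i : N) = 0
    · rw [hv.2 i hi, hv'.2 i hi]
    have hu : ∀ j, (v' - v) j • (j : N) = 0 := fun j => by
      refine hsharp _ ⟨⟨_, ∑ l ∈ Finset.univ.erase j, (v' - v) l • (l : N), ?_, ?_⟩, rfl⟩
      · rw [Finset.add_sum_erase _ (fun l => (v' - v) l • (l : N)) (Finset.mem_univ j)]; exact hd
      · rw [Finset.sum_erase_add _ (fun l => (v' - v) l • (l : N)) (Finset.mem_univ j)]; exact hd
    have hle' := hle i
    by_contra hne'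
    obtain ⟨t, ht⟩ : ∃ t, (v' - v) i = t + 1 := ⟨(v' - v) i - 1, by simp only [Pi.sub_apply]; omega⟩
    have h := hu i
    rw [ht, succ_nsmul] at h
    exact hi (hsharp _ ⟨⟨_, t • (i : N), by rw [add_comm]; exact h, h⟩, rfl⟩)
  refine ⟨fun n => (hfin n).toFinset.sup fun v => ∑ i, v i, fun m d hd => ?_⟩
  have hnonempty : ∀ n, (E n).Nonempty := fun n => by
    obtain ⟨v, hv⟩ := hsurj n
    refine ⟨fun i => if (i : N) = 0 then 0 else v i, ?_, fun i hi => if_pos hi⟩
    rw [← hv]
    exact Finset.sum_congr rfl fun i _ => by by_cases hi : (i : N) = 0 <;> simp [hi]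
  obtain ⟨v, hv, hvmax⟩ := Finset.exists_mem_eq_sup (hfin m).toFinset
    (by simpa using hnonempty m) (fun v => ∑ i, v i)
  obtain ⟨v', hv'⟩ := hnonempty d
  have hpos : 0 < ∑ i, v' i := by
    by_contra h0
    refine hd (hv'.1.symm.trans (?_ : e v' = 0))
    rw [show v' = 0 from funext fun i => (Finset.sum_eq_zero_iff.1 (by omega)) i (Finset.mem_univ i), map_zero]
  beta_reduce
  rw [hvmax]
  rw [Set.Finite.mem_toFinset] at hv
  refine lt_of_lt_of_le ?_ (Finset.le_sup (f := fun v : S → ℕ => ∑ i, v i)
    ((hfin (m + d)).mem_toFinset.2 (?_ : v + v' ∈ E (m + d))))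
  · simp only [Pi.add_apply, Finset.sum_add_distrib]; omega
  · exact ⟨by rw [map_add, hv.1, hv'.1], fun i hi => by rw [Pi.add_apply, hv.2 i hi, hv'.2 i hi]⟩

end Monoid

variable {R : Type v} {C A : Type u} [CommRing R] [CommRing C] [CommRing A] [Algebra R C] [Algebra R A]
  [Algebra C A] [IsScalarTower R C A] {N : Type*} [AddCommMonoid N] [DecidableEq N]
  (𝒜 : N → Submodule R A) [GradedAlgebra 𝒜]

local notation "π" => GradedRing.proj 𝒜

theorem proj_of_mem {x : A} {i : N} (hx : x ∈ 𝒜 i) (n : N) :
    π n x = if i = n then x else 0 := by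
  rw [GradedRing.proj_apply]
  split_ifs with h
  · subst h; exact decompose_of_mem_same 𝒜 hx
  · exact decompose_of_mem_ne 𝒜 hx h

theorem proj_mem (n : N) (x : A) : π n x ∈ 𝒜 n := by
  rw [GradedRing.proj_apply]; exact ((decompose 𝒜) x n).2

theorem mem_of_proj (x : A) {S : AddSubmonoid A} (h : ∀ n, π n x ∈ S) : x ∈ S := by
  classical
  rw [← sum_support_decompose 𝒜 x]
  exact sum_mem fun n _ => by rw [← GradedRing.proj_apply]; exact h n

variable [IsCancelAdd N]

/-- components of a product with a homogeneous factor -/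
theorem proj_mul_mem {d n : N} {g : A} (hg : g ∈ 𝒜 d) {S : AddSubmonoid A} (b : A)
    (h : ∀ m, m + d = n → π m b * g ∈ S) : π n (b * g) ∈ S := by
  classical
  by_cases hm : ∃ m, m + d = n
  · letI : AddRightCancelMonoid N :=
      { (inferInstance : AddMonoid N) with add_right_cancel := fun a b c h => add_right_cancel h }
    obtain ⟨m, rfl⟩ := hm
    rw [GradedRing.proj_apply, coe_decompose_mul_add_of_right_mem 𝒜 hg, ← GradedRing.proj_apply]
    exact h m rfl
  · induction b using Decomposition.inductionOn 𝒜 with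
    | zero => rw [zero_mul, map_zero]; exact zero_mem _
    | @homogeneous i x =>
      rw [proj_of_mem 𝒜 (SetLike.mul_mem_graded x.2 hg), if_neg fun he => hm ⟨i, he⟩]
      exact zero_mem _
    | add a b ha hb =>
      rw [add_mul, map_add]
      exact add_mem (ha fun m hm' => absurd ⟨m, hm'⟩ hm) (hb fun m hm' => absurd ⟨m, hm'⟩ hm)

theorem proj_zero_mul (hsharp : ∀ n : N, IsAddUnit n → n = 0) (a b : A) :
    π 0 (a * b) = π 0 a * π 0 b := by
  induction a using Decomposition.inductionOn 𝒜 with
  | zero => rw [zero_mul, map_zero, zero_mul]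
  | add a a' ha ha' => rw [add_mul, map_add, map_add, ha, ha', add_mul]
  | @homogeneous i x =>
    induction b using Decomposition.inductionOn 𝒜 with
    | zero => rw [mul_zero, map_zero, mul_zero]
    | add b b' hb hb' => rw [mul_add, map_add, map_add, hb, hb', mul_add]
    | @homogeneous j y =>
      rw [proj_of_mem 𝒜 (SetLike.mul_mem_graded x.2 y.2), proj_of_mem 𝒜 x.2, proj_of_mem 𝒜 y.2]
      by_cases hij : i + j = 0
      · have hi : i = 0 := hsharp i ⟨⟨i, j, hij, by rw [add_comm, hij]⟩, rfl⟩
        subst hi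
        rw [zero_add] at hij
        subst hij
        simp
      · rw [if_neg hij]
        by_cases hi : i = 0
        · subst hi
          rw [zero_add] at hij
          rw [if_neg hij, mul_zero]
        · rw [if_neg hi, zero_mul]

theorem nonempty_algEquiv [AddMonoid.FG N] (hsharp : ∀ n : N, IsAddUnit n → n = 0)
    (hC : ∀ x, x ∈ 𝒜 0 ↔ ∃ c, algebraMap C A c = x) (hinj : Function.Injective (algebraMap C A))
    [Algebra.Smooth R A] :
    ∃ (M : Type u) (_ : AddCommGroup M) (_ : Module C M), Module.Finite C M ∧ Module.Projective C M ∧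
      Nonempty (A ≃ₐ[C] SymmetricAlgebra C M) := by
  classical
  have hc0 : ∀ c, algebraMap C A c ∈ 𝒜 0 := fun c => (hC _).2 ⟨c, rfl⟩
  choose e0 he0 using fun a : A => (hC _).1 (proj_mem 𝒜 0 a)
  let ε : A →ₐ[C] C :=
    { toFun := e0
      map_one' := hinj (by rw [he0, proj_of_mem 𝒜 SetLike.GradedOne.one_mem, if_pos rfl, map_one])
      map_mul' := fun a b => hinj (by rw [map_mul, he0, he0, he0, proj_zero_mul 𝒜 hsharp])
      map_zero' := hinj (by rw [he0, map_zero, map_zero])
      map_add' := fun a b => hinj (by rw [map_add, he0, he0, he0, map_add])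
      commutes' := fun c => hinj (by
        rw [he0, proj_of_mem 𝒜 (hc0 c), if_pos rfl, Algebra.algebraMap_self, RingHom.id_apply]) }
  have hε : ∀ a, algebraMap C A (ε a) = π 0 a := he0
  have hεh : ∀ {i : N} {x : A}, x ∈ 𝒜 i → i ≠ 0 → ε x = 0 := fun {i x} hx hi =>
    hinj (by rw [hε, proj_of_mem 𝒜 hx, if_neg hi, map_zero])
  -- projections are `C`-linear
  have hlin : ∀ (n : N) (c : C) (a : A), π n (algebraMap C A c * a) = algebraMap C A c * π n a := fun n c a => by
    rw [GradedRing.proj_apply, GradedRing.proj_apply]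
    exact coe_decompose_mul_of_left_mem_zero 𝒜 (hc0 c)
  -- finitely many homogeneous generators of the augmentation ideal
  obtain ⟨T, hT⟩ := (inferInstance : Algebra.FiniteType R A).out
  let G : Finset (N × A) := T.biUnion fun t => ((decompose 𝒜 t).support.erase 0).image fun n => (n, π n t)
  have hG : ∀ g ∈ G, g.2 ∈ 𝒜 g.1 ∧ g.1 ≠ 0 := fun g hg => by
    obtain ⟨t, -, n, hn, rfl⟩ : ∃ t ∈ T, ∃ n ∈ (decompose 𝒜 t).support.erase 0, (n, π n t) = g := by
      simpa [G, eq_comm] using hg
    exact ⟨proj_mem 𝒜 n t, Finset.ne_of_mem_erase hn⟩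
  let I : Ideal A := RingHom.ker ε
  have hGI : ∀ g ∈ G, g.2 ∈ I := fun g hg => RingHom.mem_ker.2 (hεh (hG g hg).1 (hG g hg).2)
  have hIG : I ≤ Ideal.span (Prod.snd '' (G : Set (N × A))) := by
    intro a ha
    have key : a - algebraMap C A (ε a) ∈ Ideal.span (Prod.snd '' (G : Set (N × A))) := by
      clear ha
      have hmem : a ∈ Algebra.adjoin R (T : Set A) := hT ▸ Algebra.mem_top
      induction hmem using Algebra.adjoin_induction with
      | mem t ht =>
        have hsplit : t - algebraMap C A (ε t) = ∑ n ∈ (decompose 𝒜 t).support.erase 0, π n t := by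
          rw [hε, sub_eq_iff_eq_add]
          conv_lhs => rw [← sum_support_decompose 𝒜 t]
          by_cases h0 : (0 : N) ∈ (decompose 𝒜 t).support
          · rw [← Finset.sum_erase_add _ _ h0]; simp [GradedRing.proj_apply]
          · rw [Finset.erase_eq_of_notMem h0, DFinsupp.notMem_support_iff] at *
            rw [GradedRing.proj_apply 𝒜 0 t, h0]
            simp [GradedRing.proj_apply]
        rw [hsplit]
        exact sum_mem fun n hn => Ideal.subset_span ⟨(n, π n t),
          Finset.mem_biUnion.2 ⟨t, ht, Finset.mem_image.2 ⟨n, hn, rfl⟩⟩, rfl⟩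
      | algebraMap r =>
        rw [IsScalarTower.algebraMap_apply R C A, ε_algebraMap, sub_self]
        exact zero_mem _
      | add x y _ _ hx hy => convert add_mem hx hy using 1; rw [map_add, map_add]; ring
      | mul x y _ _ hx hy =>
        convert add_mem (Ideal.mul_mem_left _ x hy) (Ideal.mul_mem_left _ (algebraMap C A (ε y)) hx) using 1
        rw [map_mul, map_mul]; ring
    rwa [RingHom.mem_ker.1 ha, map_zero, sub_zero] at key
  haveI hproj : Module.Projective C (P ε) := projective_cotangent (R := R) ε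
  let cls : G → P ε := fun g => I.toCotangent ⟨g.1.2, hGI g.1 g.2⟩
  have haux : ∀ y ∈ Ideal.span (Prod.snd '' (G : Set (N × A))), D ε y ∈ Submodule.span C (Set.range cls) := by
    intro y hx'
    induction hx' using Submodule.span_induction with
    | mem y hy =>
      obtain ⟨g, hg, rfl⟩ := hy
      rw [show D ε g.2 = cls ⟨g, hg⟩ from D_mem ε ⟨g.2, hGI g hg⟩]
      exact Submodule.subset_span ⟨_, rfl⟩
    | zero => rw [map_zero]; exact zero_mem _
    | add y z _ _ hy hz => rw [map_add]; exact add_mem hy hz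
    | smul a y hmem hy =>
      have hεy : ε y = 0 :=
        RingHom.mem_ker.1 (Submodule.span_le.2 (Set.image_subset_iff.2 fun g hg => hGI g hg) hmem)
      rw [smul_eq_mul, D_mul, hεy, zero_smul, add_zero]
      exact Submodule.smul_mem _ _ hy
  have hspan : Submodule.span C (Set.range cls) = ⊤ := by
    rw [eq_top_iff]
    intro v _
    obtain ⟨⟨x, hx⟩, rfl⟩ := I.toCotangent_surjective v
    rw [← D_mem ε ⟨x, hx⟩]
    exact haux x (hIG hx)
  haveI hfin : Module.Finite C (P ε) :=
    ⟨Submodule.fg_def.2 ⟨Set.range cls, Set.finite_range _, hspan⟩⟩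
  -- an arbitrary section, made homogeneous
  let Dsurj : Function.Surjective ((D ε).comp ((RingHom.ker ε).restrictScalars C).subtype) := fun v => by
    obtain ⟨x, rfl⟩ := I.toCotangent_surjective v
    exact ⟨⟨x, x.2⟩, D_mem ε x⟩
  obtain ⟨s₀, hs₀⟩ := Module.projective_lifting_property _ LinearMap.id Dsurj
  have hs₀' : ∀ v, D ε (s₀ v : A) = v := fun v => LinearMap.congr_fun hs₀ v
  let πl : N → A →ₗ[C] A := fun n =>
    { toFun := π n
      map_add' := fun a b => map_add _ a b
      map_smul' := fun c a => by rw [RingHom.id_apply, Algebra.smul_def, Algebra.smul_def, hlin] }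
  have hπI : ∀ (n : N) (a : A), a ∈ I → π n a ∈ I := fun n a ha => by
    rw [RingHom.mem_ker] at ha ⊢
    by_cases hn : n = 0
    · subst hn
      refine hinj ?_
      rw [hε, proj_of_mem 𝒜 (proj_mem 𝒜 0 a), if_pos rfl, ← hε, ha]
    · exact hεh (proj_mem 𝒜 n a) hn
  have hπI2 : ∀ (n : N) (a : A), a ∈ I ^ 2 → π n a ∈ I ^ 2 := fun n a ha => by
    rw [pow_two] at ha ⊢
    induction ha using Submodule.mul_induction_on' with
    | mem_mul_mem x hx y hy =>
      refine mem_of_proj 𝒜 y (S := (I * I).toAddSubmonoid.comap ((π n).comp (AddMonoidHom.mulLeft x))) fun d => ?_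
      show π n (x * π d y) ∈ (I * I).toAddSubmonoid
      exact proj_mul_mem 𝒜 (proj_mem 𝒜 d y) x fun m _ => Ideal.mul_mem_mul (hπI m x hx) (hπI d y hy)
    | add x _ y _ hx hy => rw [map_add]; exact add_mem hx hy
  -- projections on the conormal module
  have hq : ∀ (n : N), ∃ q : P ε →ₗ[C] P ε, ∀ a ∈ I, q (D ε a) = D ε (π n a) := fun n => by
    let f : ↥((RingHom.ker ε).restrictScalars C) →ₗ[C] P ε :=
      (D ε).comp ((πl n).comp ((RingHom.ker ε).restrictScalars C).subtype)
    let g := (D ε).comp ((RingHom.ker ε).restrictScalars C).subtype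
    have hk : LinearMap.ker g ≤ LinearMap.ker f := fun x hx => by
      rw [LinearMap.mem_ker] at hx ⊢
      have h2 : (x : A) ∈ I ^ 2 := (Ideal.toCotangent_eq_zero _ ⟨x.1, x.2⟩).1 ((D_mem ε ⟨x.1, x.2⟩).symm.trans hx)
      have h3 : π n (x : A) ∈ I ^ 2 := hπI2 n _ h2
      show D ε (π n (x : A)) = 0
      rw [show D ε (π n (x : A)) = I.toCotangent ⟨_, hπI n _ x.2⟩ from D_mem ε ⟨_, hπI n _ x.2⟩,
        Ideal.toCotangent_eq_zero]
      exact h3
    obtain ⟨q, hq⟩ : ∃ q : P ε →ₗ[C] P ε, q.comp g = f :=
      ⟨((LinearMap.ker g).liftQ f hk).comp (g.quotKerEquivOfSurjective Dsurj).symm.toLinearMap,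
        LinearMap.ext fun x => by
          simp only [LinearMap.comp_apply, LinearEquiv.coe_coe]
          rw [show (g.quotKerEquivOfSurjective Dsurj).symm (g x) = Submodule.Quotient.mk x from
            (LinearEquiv.symm_apply_eq _).2 rfl, Submodule.liftQ_apply]⟩
    exact ⟨q, fun a ha => LinearMap.congr_fun hq ⟨a, ha⟩⟩
  choose q hq using hq
  have hqg : ∀ (n : N) (g : G), q n (cls g) = if g.1.1 = n then cls g else 0 := fun n g => by
    rw [show cls g = D ε g.1.2 from (D_mem ε ⟨g.1.2, hGI g.1 g.2⟩).symm, hq n _ (hGI g.1 g.2),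
      proj_of_mem 𝒜 (hG g.1 g.2).1]
    split_ifs with h
    · rfl
    · exact map_zero _
  let degs : Finset N := G.image Prod.fst
  let s : P ε →ₗ[C] A := ∑ n ∈ degs, (πl n).comp (((RingHom.ker ε).restrictScalars C).subtype.comp (s₀.comp (q n)))
  have hs_cls : ∀ g : G, s (cls g) = π g.1.1 (s₀ (cls g) : A) := fun g => by
    simp only [s, LinearMap.sum_apply, LinearMap.comp_apply, hqg]
    rw [Finset.sum_eq_single g.1.1]
    · rw [if_pos rfl]; rfl
    · intro n _ hn; simp [Ne.symm hn]
    · intro h; exact absurd (Finset.mem_image_of_mem Prod.fst g.2) h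
  have hDs : ∀ v, D ε (s v) = v := fun v => by
    have : (D ε).comp s = LinearMap.id := LinearMap.ext_on_range hspan fun g => by
      rw [LinearMap.comp_apply, hs_cls, LinearMap.id_apply,
        ← hq g.1.1 _ (s₀ (cls g)).2, hs₀', hqg, if_pos rfl]
    exact LinearMap.congr_fun this v
  have hεs : ∀ v, ε (s v) = 0 := fun v => by
    simp only [s, LinearMap.sum_apply, map_sum]
    exact Finset.sum_eq_zero fun n _ => RingHom.mem_ker.1 (hπI n _ (s₀ _).2)
  -- surjectivity
  let φ := SymmetricAlgebra.lift s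
  obtain ⟨w, hw⟩ := exists_height (N := N) hsharp
  have hhom : ∀ k n, w n = k → ∀ a ∈ 𝒜 n, a ∈ φ.range := by
    intro k
    induction k using Nat.strong_induction_on with
    | _ k ih =>
      rintro n rfl a ha
      by_cases hn : n = 0
      · subst hn
        obtain ⟨c, rfl⟩ := (hC a).1 ha
        exact Subalgebra.algebraMap_mem _ c
      have hlow : ∀ m d : N, d ≠ 0 → m + d = n → ∀ b ∈ 𝒜 m, b ∈ φ.range := fun m d hd he b hb =>
        ih (w m) (he ▸ hw m d hd) m rfl b hb
      -- squares of the augmentation ideal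
      have hsq : ∀ z ∈ I ^ 2, π n z ∈ φ.range := fun z hz => by
        rw [pow_two] at hz
        induction hz using Submodule.mul_induction_on' with
        | mem_mul_mem x hx y hy =>
          refine mem_of_proj 𝒜 y (S := φ.range.toSubmodule.toAddSubmonoid.comap
            ((π n).comp (AddMonoidHom.mulLeft x))) fun d => ?_
          show π n (x * π d y) ∈ φ.range.toSubmodule.toAddSubmonoid
          refine proj_mul_mem 𝒜 (proj_mem 𝒜 d y) x fun m hm => ?_
          show _ ∈ φ.range
          by_cases hd : d = 0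
          · subst hd
            rw [← hε, RingHom.mem_ker.1 hy, map_zero, mul_zero]; exact zero_mem _
          by_cases hm0 : m = 0
          · subst hm0
            rw [← hε, RingHom.mem_ker.1 hx, map_zero, zero_mul]; exact zero_mem _
          exact mul_mem (hlow m d hd hm _ (proj_mem 𝒜 m x))
            (hlow d m hm0 (by rw [add_comm]; exact hm) _ (proj_mem 𝒜 d y))
        | add x _ y _ hx hy => rw [map_add]; exact add_mem hx hy
      have hgen : ∀ g : G, g.1.1 = n → g.1.2 ∈ φ.range := fun g hg => by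
        have hdiff : g.1.2 - s (cls g) ∈ I ^ 2 := by
          have h1 : D ε (g.1.2 - s (cls g)) = 0 := by
            rw [map_sub, hDs, show D ε g.1.2 = cls g from D_mem ε ⟨_, hGI g.1 g.2⟩, sub_self]
          have h2 : g.1.2 - s (cls g) ∈ I := sub_mem (hGI g.1 g.2) (RingHom.mem_ker.2 (hεs _))
          exact (Ideal.toCotangent_eq_zero _ ⟨_, h2⟩).1 ((D_mem ε ⟨_, h2⟩).symm.trans h1)
        have h3 := hsq _ hdiff
        rw [map_sub, hs_cls, proj_of_mem 𝒜 (hG g.1 g.2).1, if_pos hg, proj_of_mem 𝒜 (proj_mem 𝒜 _ _),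
          if_pos hg, ← hs_cls] at h3
        have h4 : s (cls g) ∈ φ.range := ⟨SymmetricAlgebra.ι C _ (cls g), SymmetricAlgebra.lift_ι_apply _ _⟩
        simpa using add_mem h3 h4
      have haI : a ∈ I := RingHom.mem_ker.2 (hεh ha hn)
      have hspan' := hIG haI
      have hres : π n a ∈ φ.range := by
        clear ha haI
        induction hspan' using Submodule.span_induction with
        | mem y hy =>
          obtain ⟨g, hg, rfl⟩ := hy
          rw [proj_of_mem 𝒜 (hG g hg).1]
          split_ifs with h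
          · exact hgen ⟨g, hg⟩ h
          · exact zero_mem _
        | zero => rw [map_zero]; exact zero_mem _
        | add y z _ _ hy hz => rw [map_add]; exact add_mem hy hz
        | smul b y hmem hy =>
          have hyI : y ∈ I := Submodule.span_le.2 (Set.image_subset_iff.2 fun g hg => hGI g hg) hmem
          refine mem_of_proj 𝒜 b (S := φ.range.toSubmodule.toAddSubmonoid.comap
            ((π n).comp (AddMonoidHom.mulRight y))) fun m => ?_
          show π n (π m b * y) ∈ φ.range
          by_cases hm : m = 0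
          · subst hm
            rw [← hε, hlin]
            exact mul_mem (Subalgebra.algebraMap_mem _ _) hy
          rw [mul_comm]
          refine proj_mul_mem 𝒜 (S := φ.range.toSubmodule.toAddSubmonoid) (proj_mem 𝒜 m b) y fun d hd => ?_
          show _ ∈ φ.range
          by_cases hd0 : d = 0
          · subst hd0
            rw [← hε, RingHom.mem_ker.1 hyI, map_zero, zero_mul]; exact zero_mem _
          exact mul_mem (hlow d m hm hd _ (proj_mem 𝒜 d y))
            (hlow m d hd0 (by rw [add_comm]; exact hd) _ (proj_mem 𝒜 m b))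
      rwa [proj_of_mem 𝒜 ha, if_pos rfl] at hres
  have hsurj : Function.Surjective φ := fun a =>
    mem_of_proj 𝒜 a (S := φ.range.toSubmodule.toAddSubmonoid) fun n => hhom _ n rfl _ (proj_mem 𝒜 n a)
  exact ⟨P ε, inferInstance, inferInstance, hfin, hproj,
    ⟨(AlgEquiv.ofBijective φ ⟨lift_injective (R := R) ε s hεs hDs, hsurj⟩).symm⟩⟩

end GrothLib.VecBundle
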