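import Mathlib

/-!
# Augmented smooth algebras: the cotangent space at the section
-/

universe u v

open scoped TensorProduct

namespace GrothLib.VecBundle

variable {R : Type v} {C A : Type u} [CommRing R] [CommRing C] [CommRing A] [Algebra R C] [Algebra R A]
  [Algebra C A] [IsScalarTower R C A] (ε : A →ₐ[C] C)

/-- the conormal module of the zero section -/
abbrev P := (RingHom.ker ε).Cotangent

theorem ε_algebraMap (c : C) : ε (algebraMap C A c) = c := ε.commutes c

/-- `a ↦ [a - ε a]` -/
noncomputable def D : A →ₗ[C] P ε where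
  toFun a := (RingHom.ker ε).toCotangent ⟨a - algebraMap C A (ε a), by
    rw [RingHom.mem_ker, map_sub, ε_algebraMap, sub_self]⟩
  map_add' a b := by
    rw [← map_add]
    exact congrArg _ (Subtype.ext (by simp only [map_add, Submodule.coe_add]; ring))
  map_smul' c a := by
    rw [RingHom.id_apply, ← IsScalarTower.algebraMap_smul A c ((RingHom.ker ε).toCotangent _), ← map_smul]
    refine congrArg _ (Subtype.ext ?_)
    simp only [SetLike.val_smul, smul_eq_mul, Algebra.smul_def, map_mul, ε_algebraMap]
    ring

theorem D_mem (x : RingHom.ker ε) : D ε x = (RingHom.ker ε).toCotangent x := by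
  show (RingHom.ker ε).toCotangent _ = _
  refine congrArg _ (Subtype.ext ?_)
  show (x : A) - algebraMap C A (ε x) = x
  rw [RingHom.mem_ker.1 x.2, map_zero, sub_zero]

theorem smul_cotangent (a : A) (v : P ε) : a • v = ε a • v := by
  obtain ⟨x, rfl⟩ := (RingHom.ker ε).toCotangent_surjective v
  rw [← IsScalarTower.algebraMap_smul A (ε a) ((RingHom.ker ε).toCotangent x), ← map_smul, ← map_smul,
    Ideal.toCotangent_eq]
  have h : a - algebraMap C A (ε a) ∈ RingHom.ker ε := by
    rw [RingHom.mem_ker, map_sub, ε_algebraMap, sub_self]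
  rw [SetLike.val_smul, SetLike.val_smul, smul_eq_mul, smul_eq_mul, ← sub_mul, pow_two]
  exact Ideal.mul_mem_mul h x.2

theorem D_mul (a b : A) : D ε (a * b) = ε a • D ε b + ε b • D ε a := by
  rw [← smul_cotangent, ← smul_cotangent]
  show (RingHom.ker ε).toCotangent _ = a • (RingHom.ker ε).toCotangent _ + b • (RingHom.ker ε).toCotangent _
  rw [← map_smul, ← map_smul, ← map_add, Ideal.toCotangent_eq]
  simp only [Submodule.coe_add, SetLike.val_smul, smul_eq_mul, map_mul]
  have ha : a - algebraMap C A (ε a) ∈ RingHom.ker ε := by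
    rw [RingHom.mem_ker, map_sub, ε_algebraMap, sub_self]
  have hb : b - algebraMap C A (ε b) ∈ RingHom.ker ε := by
    rw [RingHom.mem_ker, map_sub, ε_algebraMap, sub_self]
  have h := Submodule.neg_mem _ (Ideal.mul_mem_mul ha hb)
  rw [pow_two]
  convert h using 1
  ring

theorem D_algebraMap (c : C) : D ε (algebraMap C A c) = 0 := by
  show (RingHom.ker ε).toCotangent _ = 0
  rw [← map_zero (RingHom.ker ε).toCotangent]
  exact congrArg _ (Subtype.ext (by simp))

include R in
theorem projective_cotangent [Algebra.FormallySmooth R A] : Module.Projective C (P ε) := by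
  letI : Algebra A C := ε.toRingHom.toAlgebra
  haveI : IsScalarTower R A C := IsScalarTower.of_algebraMap_eq fun r => by
    show algebraMap R C r = ε (algebraMap R A r)
    rw [IsScalarTower.algebraMap_apply R C A, ε_algebraMap]
  haveI : IsScalarTower A C (P ε) := ⟨fun a c v => by
    show (ε a * c) • v = a • c • v
    rw [mul_smul, smul_cotangent]⟩
  haveI : IsScalarTower R A (P ε) := inferInstance
  let d : Derivation R A (P ε) := Derivation.mk' ((D ε).restrictScalars R) fun a b => by
    simp only [LinearMap.coe_restrictScalars, smul_cotangent]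
    exact D_mul ε a b
  let r₀ : Ω[A⁄R] →ₗ[A] P ε := d.liftKaehlerDifferential
  let r : C ⊗[A] Ω[A⁄R] →ₗ[C] P ε := r₀.liftBaseChange C
  let i₀ : P ε →ₗ[A] C ⊗[A] Ω[A⁄R] := KaehlerDifferential.kerCotangentToTensor R A C
  let i : P ε →ₗ[C] C ⊗[A] Ω[A⁄R] :=
    { i₀ with
      map_smul' := fun c v => by
        show i₀ (c • v) = c • i₀ v
        rw [← IsScalarTower.algebraMap_smul A c v, map_smul, ← IsScalarTower.algebraMap_smul C (algebraMap C A c) (i₀ v)]
        show ε (algebraMap C A c) • i₀ v = c • i₀ v
        rw [ε_algebraMap] }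
  refine Module.Projective.of_split i r (LinearMap.ext fun v => ?_)
  obtain ⟨x, rfl⟩ := (RingHom.ker ε).toCotangent_surjective v
  let x' : RingHom.ker (algebraMap A C) := ⟨x.1, x.2⟩
  show r (KaehlerDifferential.kerCotangentToTensor R A C ((RingHom.ker (algebraMap A C)).toCotangent x')) =
    (RingHom.ker ε).toCotangent x
  rw [KaehlerDifferential.kerCotangentToTensor_toCotangent]
  rw [LinearMap.liftBaseChange_tmul, one_smul, Derivation.liftKaehlerDifferential_comp_D]
  exact D_mem ε x

section Sym

variable {M : Type u} [AddCommGroup M] [Module C M]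

variable (C M) in
/-- the augmentation ideal -/
noncomputable def J : Ideal (SymmetricAlgebra C M) :=
  RingHom.ker (SymmetricAlgebra.algebraMapInv (R := C) (M := M))

theorem ι_mem (v : M) : SymmetricAlgebra.ι C M v ∈ J C M :=
  RingHom.mem_ker.2 (SymmetricAlgebra.algebraMapInv_ι v)

theorem J_eq : J C M = Ideal.span (Set.range (SymmetricAlgebra.ι C M)) := by
  refine le_antisymm (fun x hx => ?_) (Ideal.span_le.2 fun _ ⟨v, e⟩ => e ▸ ι_mem v)
  have key : x - algebraMap C _ (SymmetricAlgebra.algebraMapInv x) ∈ Ideal.span (Set.range (SymmetricAlgebra.ι C M)) := by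
    clear hx
    induction x using SymmetricAlgebra.induction with
    | algebraMap c => rw [AlgHom.commutes, Algebra.algebraMap_self, RingHom.id_apply, sub_self]; exact zero_mem _
    | ι v => rw [SymmetricAlgebra.algebraMapInv_ι, map_zero, sub_zero]; exact Ideal.subset_span ⟨v, rfl⟩
    | mul a b ha hb =>
      convert add_mem (Ideal.mul_mem_left _ a hb)
        (Ideal.mul_mem_left _ (algebraMap C _ (SymmetricAlgebra.algebraMapInv b)) ha) using 1
      rw [map_mul, map_mul]; ring
    | add a b ha hb => convert add_mem ha hb using 1; rw [map_add, map_add]; ring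
  rwa [RingHom.mem_ker.1 hx, map_zero, sub_zero] at key

theorem eq_zero_of_forall_mem_pow {x : SymmetricAlgebra C M} (h : ∀ n, x ∈ J C M ^ n) : x = 0 := by
  let Θ : SymmetricAlgebra C M →ₐ[C] Polynomial (SymmetricAlgebra C M) :=
    SymmetricAlgebra.lift
      ((LinearMap.mulLeft C (Polynomial.X : Polynomial (SymmetricAlgebra C M))) ∘ₗ
        (IsScalarTower.toAlgHom C (SymmetricAlgebra C M) (Polynomial (SymmetricAlgebra C M))).toLinearMap ∘ₗ
          SymmetricAlgebra.ι C M)
  have hle : ∀ n, (J C M ^ n).map Θ.toRingHom ≤ Ideal.span {Polynomial.X} ^ n := fun n => by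
    rw [Ideal.map_pow]
    refine Ideal.pow_right_mono ?_ n
    rw [J_eq, Ideal.map_span, Ideal.span_le]
    rintro _ ⟨_, ⟨v, rfl⟩, rfl⟩
    refine Ideal.mem_span_singleton'.2 ⟨Polynomial.C (SymmetricAlgebra.ι C M v), ?_⟩
    show _ = Θ (SymmetricAlgebra.ι C M v)
    rw [SymmetricAlgebra.lift_ι_apply]
    show _ = Polynomial.X * _
    rw [mul_comm]
    rfl
  have h0 : Θ x = 0 := Polynomial.ext fun d => by
    have := hle (d + 1) (Ideal.mem_map_of_mem _ (h (d + 1)))
    rw [Ideal.span_singleton_pow, Ideal.mem_span_singleton] at this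
    rw [Polynomial.coeff_zero]
    exact Polynomial.X_pow_dvd_iff.1 this d (lt_add_one d)
  have hev : ∀ y, (Θ y).eval 1 = y := fun y => by
    induction y using SymmetricAlgebra.induction with
    | algebraMap c => rw [AlgHom.commutes, IsScalarTower.algebraMap_apply C (SymmetricAlgebra C M) (Polynomial _), Polynomial.algebraMap_eq, Polynomial.eval_C]
    | ι v =>
      rw [SymmetricAlgebra.lift_ι_apply]
      show (Polynomial.X * algebraMap (SymmetricAlgebra C M) (Polynomial (SymmetricAlgebra C M)) (SymmetricAlgebra.ι C M v)).eval 1 = _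
      rw [Polynomial.eval_mul, Polynomial.eval_X, one_mul, Polynomial.algebraMap_eq, Polynomial.eval_C]
    | mul a b ha hb => rw [map_mul, Polynomial.eval_mul, ha, hb]
    | add a b ha hb => rw [map_add, Polynomial.eval_add, ha, hb]
  rw [← hev x, h0, Polynomial.eval_zero]

/-- two ring maps congruent modulo the square of the augmentation ideal differ by higher terms on powers -/
theorem sub_mem_pow_succ {B : Type*} [CommRing B] (f g : SymmetricAlgebra C M →+* B) {K : Ideal B}
    (hf : ∀ x ∈ J C M, f x ∈ K) (hg : ∀ x ∈ J C M, g x ∈ K) (hfg : ∀ x, f x - g x ∈ K ^ 2) :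
    ∀ (j : ℕ), ∀ x ∈ J C M ^ j, f x - g x ∈ K ^ (j + 1) := by
  intro j
  induction j with
  | zero => exact fun x _ => by rw [zero_add, pow_one]; exact Ideal.pow_le_self two_ne_zero (hfg x)
  | succ j ih =>
    intro x hx
    rw [pow_succ'] at hx
    induction hx using Submodule.mul_induction_on' with
    | mem_mul_mem a ha b hb =>
      have h1 : (f a - g a) * f b ∈ K ^ (j + 2) := by
        have : f b ∈ K ^ j := by
          have := Ideal.mem_map_of_mem f hb
          rw [Ideal.map_pow] at this
          exact Ideal.pow_right_mono (Ideal.map_le_iff_le_comap.2 hf) j this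
        rw [add_comm j 2, pow_add]
        exact Ideal.mul_mem_mul (hfg a) this
      have h2 : g a * (f b - g b) ∈ K ^ (j + 2) := by
        rw [pow_succ']
        exact Ideal.mul_mem_mul (hg a ha) (ih b hb)
      convert add_mem h1 h2 using 1
      rw [map_mul, map_mul]; ring
    | add a _ b _ ha hb =>
      convert add_mem ha hb using 1
      rw [map_add, map_add]; ring

end Sym

include R in
/-- the map from the symmetric algebra is injective -/
theorem lift_injective [Algebra.FormallySmooth R A] (s : P ε →ₗ[C] A) (hs0 : ∀ v, ε (s v) = 0)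
    (hs : ∀ v, D ε (s v) = v) : Function.Injective (SymmetricAlgebra.lift s) := by
  rw [injective_iff_map_eq_zero]
  intro x hx
  refine eq_zero_of_forall_mem_pow fun n => ?_
  let T := SymmetricAlgebra C (P ε)
  let J' := J C (P ε)
  let B := T ⧸ J' ^ (n + 2)
  let K : Ideal B := J'.map (Ideal.Quotient.mk _)
  let q : B →ₐ[R] T ⧸ J' ^ 2 := Ideal.Quotient.factorₐ R (Ideal.pow_le_pow_right (Nat.le_add_left 2 n))
  have hq : Function.Surjective q := fun z => by
    obtain ⟨y, rfl⟩ := Ideal.Quotient.mk_surjective z
    exact ⟨Ideal.Quotient.mk _ y, rfl⟩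
  have hker : ∀ z : B, q z = 0 → z ∈ K ^ 2 := fun z hz => by
    obtain ⟨y, rfl⟩ := Ideal.Quotient.mk_surjective z
    rw [← Ideal.map_pow]
    exact Ideal.mem_map_of_mem _ (Ideal.Quotient.eq_zero_iff_mem.1 hz)
  have hnil : IsNilpotent (RingHom.ker (q : B →+* T ⧸ J' ^ 2)) := by
    refine ⟨n + 2, le_bot_iff.1 ?_⟩
    calc RingHom.ker (q : B →+* T ⧸ J' ^ 2) ^ (n + 2) ≤ K ^ (n + 2) :=
          Ideal.pow_right_mono (fun z hz => Ideal.pow_le_self two_ne_zero (hker z hz)) _
      _ = ⊥ := by
        rw [← Ideal.map_pow, Ideal.map_quotient_self]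
  let g0 : A →ₐ[R] T ⧸ J' ^ 2 :=
    { toFun := fun a => Ideal.Quotient.mk _ (algebraMap C T (ε a) + SymmetricAlgebra.ι C (P ε) (D ε a))
      map_one' := by
        rw [map_one, map_one, ← map_one (algebraMap C A), D_algebraMap, map_zero, add_zero, map_one]
      map_mul' := fun a b => by
        rw [← map_mul (Ideal.Quotient.mk (J' ^ 2)), D_mul, map_mul ε, map_mul (algebraMap C T),
          map_add (SymmetricAlgebra.ι C (P ε)), map_smul, map_smul, Ideal.Quotient.eq, pow_two]
        simp only [Algebra.smul_def]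
        convert Submodule.neg_mem _ (Ideal.mul_mem_mul (ι_mem (C := C) (D ε a)) (ι_mem (C := C) (D ε b))) using 1
        ring
      map_zero' := by simp
      map_add' := fun a b => by simp only [map_add]; abel
      commutes' := fun r => by
        rw [IsScalarTower.algebraMap_apply R C A, ε_algebraMap, D_algebraMap, map_zero, add_zero]
        rfl }
  let ψ : A →ₐ[R] B := Algebra.FormallySmooth.liftOfSurjective g0 q hq hnil
  let f : T →+* B := ψ.toRingHom.comp (SymmetricAlgebra.lift s).toRingHom
  let g : T →+* B := Ideal.Quotient.mk _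
  have hfg : ∀ y, f y - g y ∈ K ^ 2 := fun y => by
    refine hker _ ?_
    rw [map_sub, sub_eq_zero]
    show q (ψ (SymmetricAlgebra.lift s y)) = Ideal.Quotient.mk _ y
    rw [Algebra.FormallySmooth.liftOfSurjective_apply]
    induction y using SymmetricAlgebra.induction with
    | algebraMap c =>
      rw [AlgHom.commutes]
      show Ideal.Quotient.mk _ _ = _
      rw [ε_algebraMap, D_algebraMap, map_zero, add_zero]
    | ι v =>
      rw [SymmetricAlgebra.lift_ι_apply]
      show Ideal.Quotient.mk _ _ = _
      rw [hs0, hs, map_zero, zero_add]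
    | mul a b ha hb => rw [map_mul, map_mul, ha, hb, map_mul]
    | add a b ha hb => rw [map_add, map_add, ha, hb, map_add]
  have hgK : ∀ y ∈ J', g y ∈ K := fun y hy => Ideal.mem_map_of_mem _ hy
  have hfK : ∀ y ∈ J', f y ∈ K := fun y hy => by
    simpa using add_mem (Ideal.pow_le_self two_ne_zero (hfg y)) (hgK y hy)
  have hf0 : f x = 0 := by
    show ψ (SymmetricAlgebra.lift s x) = 0
    rw [hx, map_zero]
  have key : ∀ j ≤ n, x ∈ J' ^ j := fun j => by
    induction j with
    | zero => simp
    | succ j ih =>
      intro hj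
      have h := sub_mem_pow_succ f g hfK hgK hfg j x (ih (by omega))
      rw [hf0, zero_sub, Ideal.neg_mem_iff, ← Ideal.map_pow, Ideal.mem_quotient_iff_mem_sup,
        sup_eq_left.2 (Ideal.pow_le_pow_right (by omega))] at h
      exact h
  exact key n le_rfl

end GrothLib.VecBundle
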